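import Groth.Agent.KPerfPn28.CohFree
import Groth.Agent.KPB28.Loc
import Groth.Agent.VarietyLib.Dual
import Groth.Agent.S3233
import Groth.Agent.KModel28.Basic
import Groth.Agent.VarietyLib.DetDeg

/-!
# Projective bundles as families which are locally `P^n`
-/

set_option autoImplicit false
set_option linter.style.haveILetI false
set_option backward.isDefEq.respectTransparency false
set_option maxHeartbeats 800000

universe u

open CategoryTheory CategoryTheory.Limits AlgebraicGeometry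
open scoped ZeroObject
open Groth.Agent.DCat Groth.Agent.Coherent Groth.Agent.KoszPn17

attribute [local instance] HasDerivedCategory.standard

noncomputable section

namespace Groth.Agent.KPerfPn28

variable {r : ℕ} {T P : Scheme.{u}} {π : P ⟶ T} {O1 Li : P.Modules}

theorem tws_locPn (H : KPB28.LocPn r π O1) (hi : ClSub.IsInverseOf Li O1) (hLi : PicF.IsInvertible Li) :
    Tws r π (KPB28.OP O1 Li) where
  inv d := KPB28.isInvertible_inverse H.invertible hi hLi d
  add h := KPB28.nonempty_OP_add H.invertible hi hLi h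
  zero := by
    obtain ⟨e⟩ := KPB28.nonempty_OP_nat (Li := Li) H.invertible 0
    exact ⟨e⟩
  chart t := by
    obtain ⟨V, φ, ψ, _, hV, hsq, ⟨v, hv⟩, ⟨e⟩⟩ := H.chart t
    obtain ⟨R, j, ψ', _, _, hs, hsq', htw⟩ := (tws_projSpace r V).chart v
    haveI : IsOpenImmersion ψ := MorphismProperty.of_isPullback (P := @IsOpenImmersion) hsq.flip inferInstance
    refine ⟨R, j ≫ φ, ψ' ≫ ψ, inferInstance, inferInstance, ?_, hsq'.paste_horiz hsq, fun d => ?_⟩
    · obtain ⟨w, hw⟩ := hs
      exact ⟨w, by rw [← hv, ← hw]; rfl⟩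
    · obtain ⟨e₁⟩ := KPB28.nonempty_pullback_OP ψ e hLi hi d
      obtain ⟨e₂⟩ := htw d
      exact ⟨((Scheme.Modules.pullbackComp ψ' ψ).app _).symm ≪≫ (Scheme.Modules.pullback ψ').mapIso e₁ ≪≫ e₂⟩

theorem flat_of_tws {n : ℕ} {S Pt : Scheme.{u}} {f : Pt ⟶ S} {L : ℤ → Pt.Modules} (H : Tws n f L) : Flat f := by
  choose R j ψ hj hψ hs h e using H.chart
  let 𝒰 : S.OpenCover := Scheme.Cover.mkOfCovers S (fun s => Spec (R s)) j (fun s => ⟨s, hs s⟩) (fun s => hj s)
  refine IsZariskiLocalAtTarget.of_openCover (P := @Flat) 𝒰 fun s => ?_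
  rw [show 𝒰.pullbackHom f s = pullback.snd f (j s) from rfl,
    ← (h s).isoPullback_inv_snd, MorphismProperty.cancel_left_of_respectsIso (P := @Flat)]
  exact Coherent.flat_toSpec n (R s)

theorem cl_iso_coh {X : Scheme.{u}} [IsLocallyNoetherian X] {M N : X.Modules} (e : M ≅ N) :
    KZero.clSub (fun M : X.Modules => Coh.IsCoh M) N = KZero.clSub (fun M : X.Modules => Coh.IsCoh M) M := by
  haveI : ObjectProperty.IsClosedUnderIsomorphisms (C := X.Modules) (fun M => Coh.IsCoh M) :=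
    ⟨fun e h => Coherent.isCoh_iso e h⟩
  haveI : ObjectProperty.ContainsZero (C := X.Modules) (fun M => Coh.IsCoh M) :=
    ⟨⟨0, isZero_zero _, (DQCoh.coh_ops X).1 _ (isZero_zero _)⟩⟩
  exact KZeroLib.clSub_iso (P := fun M : X.Modules => Coh.IsCoh M) e

theorem cl_isZero_coh {X : Scheme.{u}} [IsLocallyNoetherian X] {M : X.Modules} (h : IsZero M) :
    KZero.clSub (fun M : X.Modules => Coh.IsCoh M) M = 0 := by
  haveI : ObjectProperty.IsClosedUnderIsomorphisms (C := X.Modules) (fun M => Coh.IsCoh M) :=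
    ⟨fun e h => Coherent.isCoh_iso e h⟩
  haveI : ObjectProperty.ContainsZero (C := X.Modules) (fun M => Coh.IsCoh M) :=
    ⟨⟨0, isZero_zero _, (DQCoh.coh_ops X).1 _ (isZero_zero _)⟩⟩
  exact KZeroLib.clSub_isZero (P := fun M : X.Modules => Coh.IsCoh M) h

theorem twC_iterate {n : ℕ} {S Pt : Scheme.{u}} {f : Pt ⟶ S} {L : ℤ → Pt.Modules} (H : Tws n f L)
    [IsLocallyNoetherian Pt] {O : Pt.Modules} (e1 : L 1 ≅ O)
    [PreservesFiniteLimits ((DCoh.tensorBi (X := Pt)).obj O)] [PreservesFiniteColimits ((DCoh.tensorBi (X := Pt)).obj O)]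
    (ht : ∀ M : Pt.Modules, Coh.IsCoh M → Coh.IsCoh (((DCoh.tensorBi (X := Pt)).obj O).obj M)) :
    ∀ (i : ℕ) (y : SGA6.Kcoh Pt), twC H (i : ℤ) y =
      (⇑(SGA6.mapSub ((DCoh.tensorBi (X := Pt)).obj O) (fun M : Pt.Modules => Coh.IsCoh M)
        (fun M : Pt.Modules => Coh.IsCoh M) ht))^[i] y
  | 0, y => by
    have h0 : twC H ((0 : ℕ) : ℤ) = AddMonoidHom.id _ := hom_ext_sub _ _ fun M hM => by
      obtain ⟨z⟩ := H.zero
      rw [twC_cl H _ hM, AddMonoidHom.id_apply]
      exact cl_iso_coh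
        (AmpleLib.tensorIso z (Iso.refl M) ≪≫ AmpleLib.unitTensorIso M).symm
    exact DFunLike.congr_fun h0 y
  | i + 1, y => by
    rw [Function.iterate_succ_apply', ← twC_iterate H e1 ht i y]
    refine DFunLike.congr_fun (hom_ext_sub (twC H ((i + 1 : ℕ) : ℤ))
      ((SGA6.mapSub ((DCoh.tensorBi (X := Pt)).obj O) (fun M : Pt.Modules => Coh.IsCoh M)
        (fun M : Pt.Modules => Coh.IsCoh M) ht).comp (twC H (i : ℤ))) fun M hM => ?_) y
    haveI : ((DCoh.tensorBi (X := Pt)).obj O).Additive := inferInstance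
    rw [AddMonoidHom.comp_apply, twC_cl H _ hM, twC_cl H _ hM,
      KLoc28.mapSub_clSub _ _ _ ht (isCoh_twist H _ M hM)]
    obtain ⟨e⟩ := H.add (show (1 : ℤ) + (i : ℤ) = ((i + 1 : ℕ) : ℤ) by push_cast; ring)
    exact cl_iso_coh
      ((DCat.TensorAssoc.assocIso O (L (i : ℤ)) M).symm ≪≫
        AmpleLib.tensorIso (AmpleLib.tensorIso e1.symm (Iso.refl _) ≪≫ e) (Iso.refl M))

theorem subsingleton_Kcoh {X : Scheme.{u}} [IsLocallyNoetherian X] (h : IsEmpty ↥X) : Subsingleton (SGA6.Kcoh X) := by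
  refine ⟨fun a b => ?_⟩
  have h0 : AddMonoidHom.id (SGA6.Kcoh X) = 0 := hom_ext_sub _ _ fun M _ => by
    rw [AddMonoidHom.id_apply, AddMonoidHom.zero_apply]
    exact cl_isZero_coh (ModStalk.isZero_of_stalks fun x => (h.false x).elim)
  exact (DFunLike.congr_fun h0 a).trans (DFunLike.congr_fun h0 b).symm

/-- `K₀` of coherent modules on a projective bundle over a Noetherian base. -/
theorem bijective_bundle {S P : Scheme.{u}} [IsNoetherian S] [IsNoetherian P] (n : ℕ)
    (E : S.Modules) (hE : FlatMod.IsFinLocFreeOfRank n E)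
    (f : P ⟶ S) (O1 : P.Modules) (q : (Scheme.Modules.pullback f).obj E ⟶ O1) (hPB : KRR.IsProjBundle f E O1 q)
    [(Scheme.Modules.pullback f).Additive] [PreservesFiniteLimits (Scheme.Modules.pullback f)]
    [PreservesFiniteColimits (Scheme.Modules.pullback f)]
    (hf : ∀ M : S.Modules, Coh.IsCoh M → Coh.IsCoh ((Scheme.Modules.pullback f).obj M))
    [PreservesFiniteLimits ((DCoh.tensorBi (X := P)).obj O1)] [PreservesFiniteColimits ((DCoh.tensorBi (X := P)).obj O1)]
    (ht : ∀ M : P.Modules, Coh.IsCoh M → Coh.IsCoh (((DCoh.tensorBi (X := P)).obj O1).obj M)) :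
    Function.Bijective (fun x : Fin n → SGA6.Kcoh S =>
      ∑ i : Fin n, (⇑(SGA6.mapSub ((DCoh.tensorBi (X := P)).obj O1) (fun M : P.Modules => Coh.IsCoh M)
          (fun M : P.Modules => Coh.IsCoh M) ht))^[(i : ℕ)]
        (SGA6.mapSub (Scheme.Modules.pullback f) (fun M : S.Modules => Coh.IsCoh M) (fun M : P.Modules => Coh.IsCoh M) hf (x i))) := by
  classical
  rcases n with - | r
  · haveI := hPB.epi
    have hP : IsEmpty ↥P := by
      by_contra hne
      rw [not_isEmpty_iff] at hne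
      have hz : IsZero O1 := IsZero.of_epi q
        ((Scheme.Modules.pullback f).map_isZero (KModel28.isZero_of_rank_zero hE))
      exact one_ne_zero (KModel28.rank_unique hPB.invertible (KModel28.rank_iso
        (KModel28.freeMod_zero_isZero.iso hz) (VarietyLib.isFinLocFreeOfRank_freeMod 0)))
    haveI := subsingleton_Kcoh hP
    exact ⟨fun a b _ => funext fun i => i.elim0, fun y => ⟨fun i => i.elim0, Subsingleton.elim _ _⟩⟩
  · have hLoc := KPB28.locPn_of_isProjBundle hE hPB
    obtain ⟨M, hM⟩ := VarietyLib.exists_isInverseOf hLoc.invertible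
    obtain ⟨eM⟩ := hM
    have hMi : PicF.IsInvertible M := S3233.isInvertible_of_inverse hLoc.invertible eM
    have hi : ClSub.IsInverseOf M O1 := ⟨AmpleLib.tensorComm _ _ ≪≫ eM⟩
    have H := tws_locPn hLoc hi hMi
    haveI := hLoc.isProper
    haveI := flat_of_tws H
    obtain ⟨e1⟩ := KPB28.nonempty_OP_nat (Li := M) hLoc.invertible 1
    have e1' : KPB28.OP O1 M 1 ≅ O1 := e1 ≪≫ AmpleLib.unitTensorIso O1
    convert bijective_coh_free H hf using 1
    funext x
    exact Finset.sum_congr rfl fun i _ => (twC_iterate H e1' ht _ _).symm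

end Groth.Agent.KPerfPn28
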