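import Groth.Agent.KPerfPn28.CohPair
import Groth.Agent.S1052
import Groth.Agent.KLoc28.Restrict

/-!
# `K₀` of coherent modules on projective space over a Noetherian base
-/

set_option autoImplicit false
set_option linter.style.haveILetI false
set_option backward.isDefEq.respectTransparency false
set_option maxHeartbeats 800000

universe u

open CategoryTheory CategoryTheory.Limits CategoryTheory.Pretriangulated AlgebraicGeometry
open Groth.Agent.DCat Groth.Agent.Coherent Groth.Agent.KoszPn17 Groth.Agent.Dual22Lib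

attribute [local instance] HasDerivedCategory.standard

noncomputable section

namespace Groth.Agent.KPerfPn28

theorem hom_ext_sub {A : Type*} [Category A] [Abelian A] {P : ObjectProperty A} {M : Type*} [AddCommGroup M]
    (f g : KZero.K0sub P →+ M) (h : ∀ X : A, P X → f (KZero.clSub P X) = g (KZero.clSub P X)) : f = g := by
  refine AddMonoidHom.ext fun x => ?_
  obtain ⟨z, rfl⟩ := QuotientAddGroup.mk_surjective x
  induction z using FreeAbelianGroup.induction_on with
  | zero => simp
  | of K =>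
    have hK : (QuotientAddGroup.mk (FreeAbelianGroup.of K) : KZero.K0sub P) = KZero.clSub P K.1 := by
      rw [KZero.clSub, dif_pos K.2]
    rw [hK]; exact h _ K.2
  | neg K h => simp only [QuotientAddGroup.mk_neg, map_neg, h]
  | add a b ha hb => simp only [QuotientAddGroup.mk_add, map_add, ha, hb]

variable {n : ℕ} {S Pt : Scheme.{u}} {f : Pt ⟶ S} {L : ℤ → Pt.Modules}

/-- Twisting preserves coherence. -/
theorem isCoh_twist (H : Tws n f L) [IsLocallyNoetherian Pt] (d : ℤ) (M : Pt.Modules) (hM : Coh.IsCoh M) :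
    Coh.IsCoh ((tensE (L d)).obj M) := by
  have hLc : Coh.IsCoh (L d) := CohBC.isCoh_of_isFinLocFree (Coherent.isFinLocFree_of_invertible (H.inv d))
  haveI := hLc.1
  haveI : Coh.IsQCoh M := hM.1
  exact ⟨Coherent.isQCoh_tensorMod _ M, isFT_tensorMod _ M hLc.2 hM.2⟩

/-- Twists on `K₀` of coherent modules. -/
def twC (H : Tws n f L) [IsLocallyNoetherian Pt] (d : ℤ) : SGA6.Kcoh Pt →+ SGA6.Kcoh Pt :=
  letI := pfl_tensE (H.inv d)
  letI := pfc_tensE (H.inv d)
  SGA6.mapSub (tensE (L d)) _ _ fun M hM => isCoh_twist H d M hM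

theorem twC_cl (H : Tws n f L) [IsLocallyNoetherian Pt] (d : ℤ) {M : Pt.Modules} (hM : Coh.IsCoh M) :
    twC H d (KZero.clSub (fun M => Coh.IsCoh M) M) = KZero.clSub (fun M => Coh.IsCoh M) ((tensE (L d)).obj M) := by
  letI := pfl_tensE (H.inv d)
  letI := pfc_tensE (H.inv d)
  exact KLoc28.mapSub_clSub _ _ _ (fun M hM => isCoh_twist H d M hM) hM

theorem cohb_inD {X : Scheme.{u}} [IsLocallyNoetherian X] {M : X.Modules} (hM : Coh.IsCoh M) :
    SGA6.cohbP X (DCoh.inD X M) :=
  ⟨SiteDer16.cohIn_single (DQCoh.coh X) M hM, 0, 0,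
    (inferInstance : ((DerivedCategory.singleFunctor X.Modules 0).obj M).IsGE 0),
    (inferInstance : ((DerivedCategory.singleFunctor X.Modules 0).obj M).IsLE 0)⟩

/-- `K₀` of coherent modules on `P^n_S` is free over that of `S` on `O, …, O(n)`. -/
theorem bijective_coh_free (H : Tws n f L) [IsNoetherian S] [IsNoetherian Pt] [IsProper f] [Flat f]
    [(Scheme.Modules.pullback f).Additive] [PreservesFiniteLimits (Scheme.Modules.pullback f)]
    [PreservesFiniteColimits (Scheme.Modules.pullback f)]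
    (hf : ∀ M : S.Modules, Coh.IsCoh M → Coh.IsCoh ((Scheme.Modules.pullback f).obj M)) :
    Function.Bijective (fun x : Fin (n + 1) → SGA6.Kcoh S => ∑ i : Fin (n + 1), twC H ((i : ℕ) : ℤ)
      (SGA6.mapSub (Scheme.Modules.pullback f) (fun M => Coh.IsCoh M) (fun M => Coh.IsCoh M) hf (x i))) := by
  let p := f
  let A := cohAdm H
  haveI := DCat.hasLpull p
  obtain ⟨_, _⟩ := PullPerf.exists_commShift_Lpull p
  have hL : ∀ K : DCoh.D S, A.base K → A.total ((DCoh.Lpull p).obj K) := fun K h => cohb_pull h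
  obtain ⟨φS, hφS⟩ := S1052.result S
  obtain ⟨φP, hφP⟩ := S1052.result Pt
  have hpull : ∀ x, φP (SGA6.mapSub (Scheme.Modules.pullback p) (fun M => Coh.IsCoh M) (fun M => Coh.IsCoh M) hf x) =
      SGA6.mapTr (DCoh.Lpull p) A.base A.total hL (φS x) := fun x => by
    refine DFunLike.congr_fun (hom_ext_sub
      (φP.toAddMonoidHom.comp (SGA6.mapSub (Scheme.Modules.pullback p) (fun M => Coh.IsCoh M) (fun M => Coh.IsCoh M) hf))
      ((SGA6.mapTr (DCoh.Lpull p) A.base A.total hL).comp φS.toAddMonoidHom) fun M hM => ?_) x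
    show φP _ = SGA6.mapTr (DCoh.Lpull p) A.base A.total hL (φS _)
    rw [KLoc28.mapSub_clSub _ _ _ hf hM, hφP _ (hf M hM), hφS _ hM]
    refine Eq.trans ?_ (mapTr_cl (P := A.base) (Q := A.total) _ hL (cohb_inD hM)).symm
    obtain ⟨e⟩ := DQCoh.FlatDesc17.nonempty_Lpull_fd p (DCoh.inD S M)
    exact (cl_iso (P := A.total) A.iso_total A.zero_total (e ≪≫
      ((Scheme.Modules.pullback p).mapDerivedCategorySingleFunctor 0).app M) (hL _ (cohb_inD hM)))
  have htw : ∀ (d : ℤ) (y : SGA6.Kcoh Pt), φP (twC H d y) = tw A d (φP y) := fun d y => by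
    refine DFunLike.congr_fun (hom_ext_sub (φP.toAddMonoidHom.comp (twC H d))
      ((tw A d).comp φP.toAddMonoidHom) fun M hM => ?_) y
    show φP _ = tw A d (φP _)
    letI := pfl_tensE (H.inv d)
    letI := pfc_tensE (H.inv d)
    rw [twC_cl H d hM, hφP _ (isCoh_twist H d M hM), hφP _ hM]
    refine Eq.trans ?_ (tw_cl A d (cohb_inD hM)).symm
    exact cl_iso (P := A.total) A.iso_total A.zero_total
      (((tensE (L d)).mapDerivedCategorySingleFunctor 0).app M)
      (A.twist_total d (cohb_inD hM))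
  have hb := bijective_free A hL
  refine (Function.Bijective.of_comp_iff' φP.bijective _).1 ?_
  let eS : (Fin (n + 1) → SGA6.Kcoh S) → (Fin (n + 1) → KZero.K0tr A.base) := fun x i => φS (x i)
  have heS : Function.Bijective eS :=
    ⟨fun a b h => funext fun i => φS.injective (congrFun h i),
      fun b => ⟨fun i => φS.symm (b i), funext fun i => φS.apply_symm_apply (b i)⟩⟩
  convert hb.comp heS using 1
  funext x
  show φP (∑ i : Fin (n + 1), _) = ∑ i : Fin (n + 1), _
  rw [map_sum]
  refine Finset.sum_congr rfl fun i _ => ?_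
  rw [htw, hpull]

end Groth.Agent.KPerfPn28
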