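import Groth.Agent.KoszPn17.PnDecomp
import Groth.Agent.Dual22Lib.PPFlat
import Groth.Agent.Dual22Lib.GlueOpens
import Groth.Agent.Coherent.ProjSpaceFlat
import Groth.Agent.KPr28.Reg
import Groth.Agent.RelVALib.ChowPn

/-!
# Derived direct images from projective space over any base, computed on affine charts
-/

set_option autoImplicit false
set_option linter.style.haveILetI false
set_option backward.isDefEq.respectTransparency false
set_option maxHeartbeats 800000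

universe u

open CategoryTheory CategoryTheory.Limits CategoryTheory.Pretriangulated AlgebraicGeometry
open Groth.Agent.DCat Groth.Agent.Coherent Groth.Agent.Dual22Lib.BCSquare Groth.Agent.KoszPn17
open Groth.Agent.Dual22Lib

attribute [local instance] HasDerivedCategory.standard

namespace Groth.Agent.KPerfPn28

section Mate

universe v₁ v₂ v₃ v₄ u₁ u₂ u₃ u₄

variable {B : Type u₁} [Category.{v₁} B] {A : Type u₂} [Category.{v₂} A] {B' : Type u₃} [Category.{v₃} B']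
  {A' : Type u₄} [Category.{v₄} A']
  {Lp : B ⥤ A} {Rp : A ⥤ B} {Lj : B ⥤ B'} {Rj : B' ⥤ B} {Lq : A ⥤ A'} {Rq : A' ⥤ A} {Lp' : B' ⥤ A'} {Rp' : A' ⥤ B'}

/-- The unit of a base changed adjunction. -/
theorem isIso_map_unit (adjp : Lp ⊣ Rp) (adjj : Lj ⊣ Rj) (adjq : Lq ⊣ Rq) (adjp' : Lp' ⊣ Rp')
    (α : Lj ⋙ Lp' ≅ Lp ⋙ Lq) (M : B)
    (hbc : ∀ e : Rq ⋙ Rp ≅ Rp' ⋙ Rj, IsIso ((BCAlg.bc adjj adjq e).app (Lp.obj M)))
    (h : IsIso (adjp'.unit.app (Lj.obj M))) : IsIso (Lj.map (adjp.unit.app M)) := by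
  let A₁ := adjp.comp adjq
  let A₂ := (adjj.comp adjp').ofNatIsoLeft α
  let e : Rq ⋙ Rp ≅ Rp' ⋙ Rj := A₁.rightAdjointUniq A₂
  haveI := hbc e
  have key : Lj.map (adjp.unit.app M) ≫ (BCAlg.bc adjj adjq e).app (Lp.obj M) =
      adjp'.unit.app (Lj.obj M) ≫ Rp'.map (α.hom.app M) := by
    apply (adjj.homEquiv _ _).injective
    rw [adjj.homEquiv_naturality_left]
    refine (congrArg (adjp.unit.app M ≫ ·) (BCAlg.unit_bc adjj adjq e (Lp.obj M))).trans ?_
    refine Eq.trans ?_ (adjj.homEquiv_unit M ((Lq ⋙ Rp').obj (Lp.obj M)) _).symm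
    have h1 := congr_app (Adjunction.unit_rightAdjointUniq_hom A₁ A₂) M
    simp only [A₁, A₂, e, Adjunction.comp_unit_app, Adjunction.ofNatIsoLeft, NatTrans.comp_app,
      Functor.whiskerLeft_app, Functor.comp_map, Category.assoc] at h1 ⊢
    refine h1.trans ?_
    simp [Adjunction.mkOfHomEquiv, Adjunction.homEquiv_unit]
  haveI : IsIso (Lj.map (adjp.unit.app M) ≫ (BCAlg.bc adjj adjq e).app (Lp.obj M)) := by
    rw [key]; infer_instance
  exact IsIso.of_isIso_comp_right _ ((BCAlg.bc adjj adjq e).app (Lp.obj M))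

end Mate

section Square

variable (n : ℕ) {S : Scheme.{u}} {R : CommRingCat.{u}} (j : Spec R ⟶ S)

theorem exists_square : ∃ ψ : CohB1.ProjSpace n R ⟶ KRR.PY n S,
    IsPullback ψ (CohB1.ProjSpace.toSpec n R) (KRR.pr n S) j ∧
    ∀ d : ℤ, Nonempty ((Scheme.Modules.pullback ψ).obj (Twist.twistOver n S d) ≅ Twist.twistProjSpace n R d) := by
  letI : Algebra (ULift.{u} ℤ) R :=
    ((Int.castRingHom R).comp (ULift.ringEquiv : (ULift.{u} ℤ) ≃+* ℤ).toRingHom).toAlgebra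
  have hR : Quot8.IsPn n (CohB1.ProjSpace.toSpec n R) (Quot8.projChange n (ULift.{u} ℤ) R) := by
    show IsPullback _ _ _ _
    rw [specULiftZIsTerminal.hom_ext (specULiftZIsTerminal.from _)
      (Spec.map (CommRingCat.ofHom (algebraMap (ULift.{u} ℤ) R)))]
    exact Coherent.isPullback_projSpace n (ULift.{u} ℤ) R
  have hP := Quot8.isPn_projSpaceOver n S
  let p₁ := pullback.fst (CohB1.ProjSpace.toSpec n (ULift.{u} ℤ)) (specULiftZIsTerminal.from S)
  have w : Quot8.projChange n (ULift.{u} ℤ) R ≫ CohB1.ProjSpace.toSpec n (ULift.{u} ℤ) =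
      (CohB1.ProjSpace.toSpec n R ≫ j) ≫ specULiftZIsTerminal.from S :=
    specULiftZIsTerminal.hom_ext _ _
  let ψ : CohB1.ProjSpace n R ⟶ KRR.PY n S := pullback.lift _ _ w
  have h1 : ψ ≫ p₁ = Quot8.projChange n (ULift.{u} ℤ) R := pullback.lift_fst _ _ _
  refine ⟨ψ, IsPullback.of_right ?_ (pullback.lift_snd _ _ _) hP, fun d => ?_⟩
  · show IsPullback (ψ ≫ p₁) _ _ (j ≫ specULiftZIsTerminal.from S)
    rw [h1, specULiftZIsTerminal.hom_ext (j ≫ specULiftZIsTerminal.from S) (specULiftZIsTerminal.from (Spec R))]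
    exact hR
  · obtain ⟨e⟩ := Quot8.nonempty_pullback_twistProjSpace n (ULift.{u} ℤ) R d
    exact ⟨(Scheme.Modules.pullbackComp ψ p₁).app _ ≪≫ (Scheme.Modules.pullbackCongr h1).app _ ≪≫ e⟩

end Square

variable {n : ℕ} {S Pt : Scheme.{u}}

/-- A family which is locally `P^n` with its twisting sheaves `L`. -/
structure Tws (n : ℕ) {Pt S : Scheme.{u}} (f : Pt ⟶ S) (L : ℤ → Pt.Modules) : Prop where
  inv : ∀ d, PicF.IsInvertible (L d)
  add : ∀ {a b c : ℤ}, a + b = c → Nonempty (CohB1.tensorMod (L a) (L b) ≅ L c)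
  zero : Nonempty (L 0 ≅ Coh.structureModule Pt)
  chart : ∀ s : S, ∃ (R : CommRingCat.{u}) (j : Spec R ⟶ S) (ψ : CohB1.ProjSpace n R ⟶ Pt)
    (_ : IsOpenImmersion j) (_ : IsOpenImmersion ψ), s ∈ j.opensRange ∧
    IsPullback ψ (CohB1.ProjSpace.toSpec n R) f j ∧
    ∀ d : ℤ, Nonempty ((Scheme.Modules.pullback ψ).obj (L d) ≅ Twist.twistProjSpace n R d)

variable {f : Pt ⟶ S} {L : ℤ → Pt.Modules} (H : Tws n f L)

/-- The twist on `D(P)`. -/
noncomputable abbrev GS (H : Tws n f L) (d : ℤ) : DCoh.D Pt ⥤ DCoh.D Pt :=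
  Gd (H.inv d)

theorem nonempty_GS_add {a b c : ℤ} (h : a + b = c) : Nonempty (GS H b ⋙ GS H a ≅ GS H c) := by
  obtain ⟨e⟩ := H.add h
  exact nonempty_Gd_comp _ _ _ e

theorem nonempty_GS_zero : Nonempty (GS H 0 ≅ 𝟭 _) := by
  obtain ⟨z⟩ := H.zero
  exact nonempty_Gd_unit _ z

/-- Restriction along an open immersion commutes with the twist. -/
theorem nonempty_Lpull_GS {R : CommRingCat.{u}} (ψ : CohB1.ProjSpace n R ⟶ Pt) [IsOpenImmersion ψ]
    [DCoh.HasLpull ψ] (d : ℤ)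
    (hψ : Nonempty ((Scheme.Modules.pullback ψ).obj (L d) ≅ Twist.twistProjSpace n R d)) :
    Nonempty (GS H d ⋙ DCoh.Lpull ψ ≅ DCoh.Lpull ψ ⋙ G n R d) := by
  obtain ⟨t⟩ := hψ
  let Ld := L d
  let L' := Twist.twistProjSpace n R d
  have hL : PicF.IsInvertible Ld := H.inv d
  have hL' : PicF.IsInvertible L' := Coherent.isInvertible_twistProjSpaceZ n d R
  haveI := pfl_tensE hL
  haveI := pfc_tensE hL
  haveI := pfl_tensE hL'
  haveI := pfc_tensE hL'
  haveI := PullPerf.preservesFiniteLimits_restrict ψ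
  let P := Scheme.Modules.pullback ψ
  let Rs := Scheme.Modules.restrictFunctor ψ
  let a : tensE Ld ⋙ P ≅ P ⋙ tensE (P.obj Ld) :=
    NatIso.ofComponents (fun M => DCat.PullTensor.pullTensorIso ψ Ld M) fun {M N} φ =>
      DCat.PullTensor.pullTensorHom_nat₂ ψ Ld φ
  let r := Scheme.Modules.restrictFunctorIsoPullback ψ
  let e : tensE Ld ⋙ Rs ≅ Rs ⋙ tensE L' :=
    Functor.isoWhiskerLeft _ r ≪≫ a ≪≫ Functor.isoWhiskerLeft P (tensECongr t) ≪≫
      Functor.isoWhiskerRight r.symm _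
  obtain ⟨e₁⟩ := DQCoh.AffineKProj17.nonempty_mdcCompIso (tensE Ld) Rs (tensE Ld ⋙ Rs) (Iso.refl _)
  obtain ⟨e₂⟩ := DQCoh.AffineKProj17.nonempty_mdcCompIso Rs (tensE L') (tensE Ld ⋙ Rs) e.symm
  obtain ⟨l⟩ := nonempty_Lpull_rd ψ
  exact ⟨Functor.isoWhiskerLeft _ l ≪≫ e₁ ≪≫ e₂.symm ≪≫ Functor.isoWhiskerRight l.symm _⟩

/-- Twisting preserves perfect objects. -/
theorem isPerfect_Gd {X : Scheme.{u}} {L : X.Modules} (hL : PicF.IsInvertible L) {K : DCoh.D X}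
    (hK : DCoh.IsPerfect K) : DCoh.IsPerfect ((Gd hL).obj K) := by
  haveI := pfl_tensE hL
  haveI := pfc_tensE hL
  refine DQCoh.isPerfect_of_local _ fun x => ?_
  obtain ⟨U, hxU, ⟨t⟩⟩ := hL x
  haveI := hasLpull U.ι
  obtain ⟨l⟩ := DQCoh.nonempty_Lpull_restrict U.ι K
  refine ⟨U, U.ι, inferInstance, by simpa using hxU,
    PCTriangle.perfect_iso ?_ (PullPerf.isPerfect_Lpull U.ι K hK)⟩
  let P := Scheme.Modules.pullback U.ι
  let Rs := Scheme.Modules.restrictFunctor U.ι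
  let a : tensE L ⋙ P ≅ P ⋙ tensE (P.obj L) :=
    NatIso.ofComponents (fun M => DCat.PullTensor.pullTensorIso U.ι L M) fun {M N} ψ =>
      DCat.PullTensor.pullTensorHom_nat₂ U.ι L ψ
  let r := Scheme.Modules.restrictFunctorIsoPullback U.ι
  let e : tensE L ⋙ Rs ≅ Rs :=
    Functor.isoWhiskerLeft _ r ≪≫ a ≪≫
      Functor.isoWhiskerLeft P (tensECongr ((r.app L).symm ≪≫ t) ≪≫ unitTensENatIso') ≪≫
      Functor.rightUnitor _ ≪≫ r.symm
  haveI := PullPerf.preservesFiniteLimits_restrict U.ι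
  exact l ≪≫ ((DQCoh.AffineKProj17.nonempty_mdcCompIso (tensE L) Rs Rs e).some.app K).symm

/-- An object vanishing on the members of an affine cover is zero. -/
theorem isZero_of_charts {X : Scheme.{u}} (K : DCoh.D X)
    (h : ∀ x : X, ∃ (W : Scheme.{u}) (k : W ⟶ X) (_ : IsOpenImmersion k) (_ : DCoh.HasLpull k),
      x ∈ k.opensRange ∧ IsZero ((DCoh.Lpull k).obj K)) : IsZero K := by
  refine SuppOpen.isZero_of_hd _ fun i => ModStalk.isZero_of_stalks fun x => ?_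
  obtain ⟨W, k, _, _, hx, hz⟩ := h x
  obtain ⟨l⟩ := nonempty_Lpull_rd k
  haveI := (AdjGeom.killed_iff k K).1 (hz.of_iso (l.app K).symm) i x hx
  exact SuppOpen.isZero_stalkFunctor _ x

theorem isIso_of_charts {X : Scheme.{u}} {K L : DCoh.D X} (f : K ⟶ L)
    (h : ∀ x : X, ∃ (W : Scheme.{u}) (k : W ⟶ X) (_ : IsOpenImmersion k) (_ : DCoh.HasLpull k),
      x ∈ k.opensRange ∧ IsIso ((DCoh.Lpull k).map f)) : IsIso f := by
  obtain ⟨C, v, w, hT⟩ := distinguished_cocone_triangle f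
  refine (Triangle.isZero₃_iff_isIso₁ _ hT).1 (isZero_of_charts C fun x => ?_)
  obtain ⟨W, k, hk, hk', hx, hi⟩ := h x
  obtain ⟨δ, hδ⟩ := TenLocal.triExact_Lpull k _ hT
  exact ⟨W, k, hk, hk', hx, (Triangle.isZero₃_iff_isIso₁ _ hδ).2 hi⟩

/-- Base change of the derived direct image to a chart. -/
theorem nonempty_Lpull_Rpush {P P' T' : Scheme.{u}} {p : P ⟶ S} {ψ : P' ⟶ P} {j : T' ⟶ S} {p' : P' ⟶ T'}
    [IsOpenImmersion j] (h : IsPullback ψ p' p j) [DCoh.HasLpull j] [DCoh.HasLpull ψ] [DCoh.HasRpush p]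
    [DCoh.HasRpush p'] {E : DCoh.D P} (hE : DCoh.IsQCohD E) :
    Nonempty ((DCoh.Lpull j).obj ((DCoh.Rpush p).obj E) ≅ (DCoh.Rpush p').obj ((DCoh.Lpull ψ).obj E)) := by
  haveI := hasRpush j
  haveI := hasRpush ψ
  obtain ⟨aj⟩ := nonempty_pullPushAdj j
  obtain ⟨aq⟩ := nonempty_pullPushAdj ψ
  obtain ⟨e⟩ := exists_e h.w
  haveI : IsIso ((BCAlg.bc aj aq e).app E) :=
    good_of_open h inferInstance inferInstance inferInstance inferInstance inferInstance inferInstance aj aq e E hE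
  exact ⟨asIso ((BCAlg.bc aj aq e).app E)⟩

/-- The unit is invertible on objects with quasi-coherent cohomology. -/
theorem isIso_unit (H : Tws n f L) [DCoh.HasLpull f] [DCoh.HasRpush f]
    (adj : DCoh.Lpull f ⊣ DCoh.Rpush f) (M : DCoh.D S) (hM : DCoh.IsQCohD M) :
    IsIso (adj.unit.app M) := by
  refine isIso_of_charts _ fun s => ?_
  obtain ⟨R, j, ψ, _, _, hs, hsq, -⟩ := H.chart s
  let q := CohB1.ProjSpace.toSpec n R
  haveI := hasLpull j
  haveI := hasLpull ψ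
  haveI := hasLpull q
  haveI := hasRpush j
  haveI := hasRpush ψ
  haveI := hasRpush q
  haveI := hasLpull (q ≫ j)
  haveI := hasLpull (ψ ≫ f)
  obtain ⟨aj⟩ := nonempty_pullPushAdj j
  obtain ⟨aq⟩ := nonempty_pullPushAdj ψ
  obtain ⟨ap⟩ := nonempty_pullPushAdj q
  obtain ⟨c₁⟩ := nonempty_LpullComp q j
  obtain ⟨c₂⟩ := nonempty_LpullComp ψ f
  have hc : ∀ (g : CohB1.ProjSpace n R ⟶ S) [DCoh.HasLpull g], g = ψ ≫ f →
      Nonempty (DCoh.Lpull g ≅ DCoh.Lpull (ψ ≫ f)) := fun g _ h => by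
    subst h; exact ⟨Iso.refl _⟩
  obtain ⟨c₃⟩ := hc (q ≫ j) hsq.w.symm
  refine ⟨_, j, inferInstance, inferInstance, hs,
    isIso_map_unit adj aj aq ap (c₁ ≪≫ c₃ ≪≫ c₂.symm) M (fun e => ?_) ?_⟩
  · exact good_of_open hsq inferInstance inferInstance inferInstance inferInstance inferInstance inferInstance aj aq e _
      (DQCoh.isQCohD_Lpull _ _ hM)
  · exact isIso_unit_qcoh n R ap _ (DQCoh.isQCohD_Lpull _ _ hM)

/-- `Rp_*(Lp^*M ⊗ O(d)) = 0` for `-n ≤ d < 0`. -/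
theorem isZero_push_pull' [DCoh.HasLpull f] [DCoh.HasRpush f] (d : ℤ) (hd : -(n : ℤ) ≤ d)
    (hd' : d < 0) (M : DCoh.D S) (hM : DCoh.IsQCohD M) :
    IsZero ((DCoh.Rpush f).obj ((GS H d).obj ((DCoh.Lpull f).obj M))) := by
  refine isZero_of_charts _ fun s => ?_
  obtain ⟨R, j, ψ, _, _, hs, hsq, htw⟩ := H.chart s
  let q := CohB1.ProjSpace.toSpec n R
  haveI := hasLpull j
  haveI := hasLpull ψ
  haveI := hasLpull q
  haveI := hasRpush q
  haveI := hasLpull (q ≫ j)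
  haveI := hasLpull (ψ ≫ f)
  obtain ⟨c₁⟩ := nonempty_LpullComp q j
  obtain ⟨c₂⟩ := nonempty_LpullComp ψ f
  obtain ⟨b⟩ := nonempty_Lpull_Rpush hsq (E := (GS H d).obj ((DCoh.Lpull f).obj M))
    (isQCohD_Gd _ (DQCoh.isQCohD_Lpull _ _ hM))
  obtain ⟨g⟩ := nonempty_Lpull_GS H ψ d (htw d)
  have hc : ∀ (g : CohB1.ProjSpace n R ⟶ S) [DCoh.HasLpull g], g = ψ ≫ f →
      Nonempty (DCoh.Lpull g ≅ DCoh.Lpull (ψ ≫ f)) := fun g _ h => by
    subst h; exact ⟨Iso.refl _⟩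
  obtain ⟨c₃⟩ := hc (q ≫ j) hsq.w.symm
  refine ⟨_, j, inferInstance, inferInstance, hs, IsZero.of_iso ?_ (b ≪≫ (DCoh.Rpush q).mapIso (g.app _ ≪≫
    (G n R d).mapIso ((c₂ ≪≫ c₃.symm ≪≫ c₁.symm).app M)))⟩
  exact isZero_push_pull n R d hd hd' _ (DQCoh.isQCohD_Lpull _ _ hM)

/-- An object all whose twists `0, …, n` have vanishing direct image is zero. -/
theorem isZero_of_push [DCoh.HasRpush f] (E : DCoh.D Pt) (hE : DCoh.IsQCohD E)
    (h : ∀ d : ℕ, d ≤ n → IsZero ((DCoh.Rpush f).obj ((GS H d).obj E))) : IsZero E := by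
  refine isZero_of_charts _ fun x => ?_
  obtain ⟨R, j, ψ, _, _, hs, hsq, htw⟩ := H.chart (f x)
  haveI := hasLpull j
  haveI := hasLpull ψ
  haveI := hasRpush (CohB1.ProjSpace.toSpec n R)
  haveI := hasLpull (CohB1.ProjSpace.toSpec n R)
  refine ⟨_, ψ, inferInstance, inferInstance, ?_, isZero_of_push_zero n R _ (DQCoh.isQCohD_Lpull _ _ hE) fun d hd => ?_⟩
  · exact BCSquare.opensRange_le_of_isPullback hsq hs
  · obtain ⟨g⟩ := nonempty_Lpull_GS H ψ d (htw d)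
    obtain ⟨_, _⟩ := PullPerf.exists_commShift_Lpull j
    obtain ⟨b⟩ := nonempty_Lpull_Rpush hsq (E := (GS H d).obj E) (isQCohD_Gd _ hE)
    exact ((DCoh.Lpull j).map_isZero (h d hd)).of_iso ((DCoh.Rpush _).mapIso (g.symm.app E) ≪≫ b.symm)

/-- Projective space over any base. -/
theorem tws_projSpace (n : ℕ) (S : Scheme.{u}) : Tws n (KRR.pr n S) (Twist.twistOver n S) where
  inv d := CM28.isInvertible_twistOver n S d
  add h := CM28.nonempty_twistOver_add n S h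
  zero := CM28.nonempty_twistOver_zero n S
  chart s := by
    obtain ⟨V, hV, hs, -⟩ := exists_isAffineOpen_mem_and_subset (show s ∈ (⊤ : S.Opens) from trivial)
    obtain ⟨ψ, h1, h2⟩ := exists_square n hV.fromSpec
    exact ⟨_, hV.fromSpec, ψ, inferInstance, MorphismProperty.of_isPullback (P := @IsOpenImmersion) h1.flip inferInstance,
      by rw [hV.opensRange_fromSpec]; exact hs, h1, h2⟩

end Groth.Agent.KPerfPn28
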