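import Groth.Agent.KPerfPn28.Main

/-!
# The perfect complexes on projective space as an admissible pair
-/

set_option autoImplicit false
set_option linter.style.haveILetI false
set_option backward.isDefEq.respectTransparency false

universe u

open CategoryTheory CategoryTheory.Limits CategoryTheory.Pretriangulated AlgebraicGeometry
open Groth.Agent.DCat Groth.Agent.Coherent Groth.Agent.KoszPn17 Groth.Agent.Dual22Lib
open scoped ZeroObject

attribute [local instance] HasDerivedCategory.standard

noncomputable section

namespace Groth.Agent.KPerfPn28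

variable {n : ℕ} {S : Scheme.{u}}

theorem isPerfect_push [DCoh.HasRpush (KRR.pr n S)] {K : DCoh.D (KRR.PY n S)} (hK : DCoh.IsPerfect K) :
    DCoh.IsPerfect ((DCoh.Rpush (KRR.pr n S)).obj K) := by
  haveI : IsProper (KRR.pr n S) := RelVALib.isProper_toBase n S
  haveI : Flat (KRR.pr n S) := Coherent.flat_toBase n S
  haveI : LocallyOfFinitePresentation (KRR.pr n S) := KPr28.locallyOfFinitePresentation_pr n S
  exact PPFlat.pp_flat (KRR.pr n S) K hK

/-- Perfect complexes. -/
def perfAdm (n : ℕ) (S : Scheme.{u}) : Adm (tws_projSpace n S) where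
  base := SGA6.perfP S
  total := SGA6.perfP (KRR.PY n S)
  qc_base h := SumAdj.isQCohD_perfect' h
  qc_total h := SumAdj.isQCohD_perfect' h
  iso_base e h := PCTriangle.perfect_iso e h
  iso_total e h := PCTriangle.perfect_iso e h
  zero_base := PerfLift.isPerfect_isZero (isZero_zero _)
  zero_total := PerfLift.isPerfect_isZero (isZero_zero _)
  cone_total hT h₁ h₂ := (PCTriangle.perfect_two_out_of_three hT).1 h₁ h₂
  twist_total _ _ hK := isPerfect_Gd _ hK
  push_total hK := isPerfect_push hK

end Groth.Agent.KPerfPn28
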