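import Groth.Agent.KPerfPn28.Main
import Groth.Agent.Dual22Lib.SupportAdj
import Groth.Agent.SiteDer16.BoundedEquiv
import Groth.Agent.DQCoh.FlatDescPsc17
import Groth.Agent.CycLib28.InterPull
import Groth.Agent.Coherent.TensorQcoh

/-!
# Bounded coherent objects on projective space as an admissible pair
-/

set_option autoImplicit false
set_option linter.style.haveILetI false
set_option backward.isDefEq.respectTransparency false
set_option maxHeartbeats 800000

universe u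

open CategoryTheory CategoryTheory.Limits CategoryTheory.Pretriangulated AlgebraicGeometry
open Groth.Agent.DCat Groth.Agent.Coherent Groth.Agent.KoszPn17 Groth.Agent.Dual22Lib
open scoped ZeroObject

attribute [local instance] HasDerivedCategory.standard

noncomputable section

namespace Groth.Agent.KPerfPn28

variable {X Y : Scheme.{u}}

theorem cohb_iff (K : DCoh.D X) : SGA6.cohbP X K ↔ WSerre.cohInBdd (DQCoh.coh X) K :=
  ⟨fun ⟨h, a, b, ha, hb⟩ => ⟨h, ⟨a, ha⟩, ⟨b, hb⟩⟩, fun ⟨h, ⟨a, ha⟩, ⟨b, hb⟩⟩ => ⟨h, a, b, ha, hb⟩⟩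

variable [IsLocallyNoetherian X]

theorem cohb_iso {K L : DCoh.D X} (e : K ≅ L) (h : SGA6.cohbP X K) : SGA6.cohbP X L := by
  obtain ⟨h, a, b, ha, hb⟩ := h
  exact ⟨SiteDer16.cohIn_of_iso (DQCoh.coh X) e h, a, b, DerivedCategory.TStructure.t.isGE_of_iso e a,
    DerivedCategory.TStructure.t.isLE_of_iso e b⟩

theorem cohb_zero : SGA6.cohbP X 0 :=
  (cohb_iff _).2 (SiteDer16.cohInBdd_zero (DQCoh.coh X) (isZero_zero _))

theorem cohb_cone {T : Triangle (DCoh.D X)} (hT : T ∈ distTriang _) (h₁ : SGA6.cohbP X T.obj₁)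
    (h₂ : SGA6.cohbP X T.obj₂) : SGA6.cohbP X T.obj₃ :=
  (cohb_iff _).2 (SiteDer16.cohInBdd_obj₂ (DQCoh.coh X) (rot_of_distTriang _ hT) ((cohb_iff _).1 h₂)
    (SiteDer16.cohInBdd_shift (DQCoh.coh X) 1 ((cohb_iff _).1 h₁)))

theorem cohb_twist {L : X.Modules} (hL : PicF.IsInvertible L) {K : DCoh.D X} (h : SGA6.cohbP X K) :
    SGA6.cohbP X ((Gd hL).obj K) := by
  haveI := pfl_tensE hL
  haveI := pfc_tensE hL
  refine (cohb_iff _).2 (SiteDer16.cohInBdd_map (tensE L) (DQCoh.coh X) (DQCoh.coh X) (fun M hM => ?_)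
    ((cohb_iff _).1 h))
  have hLc : Coh.IsCoh L := CohBC.isCoh_of_isFinLocFree (Coherent.isFinLocFree_of_invertible hL)
  haveI := hLc.1
  haveI : Coh.IsQCoh M := hM.1
  exact ⟨Coherent.isQCoh_tensorMod L M, isFT_tensorMod L M hLc.2 hM.2⟩

theorem cohb_pull {f : Y ⟶ X} [Flat f] [IsLocallyNoetherian Y] [DCoh.HasLpull f] {K : DCoh.D X}
    (h : SGA6.cohbP X K) : SGA6.cohbP Y ((DCoh.Lpull f).obj K) := by
  haveI := DCat.FlatPull.preservesFiniteLimits_pullback f
  obtain ⟨e⟩ := DQCoh.FlatDesc17.nonempty_Lpull_fd f K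
  exact cohb_iso e.symm ((cohb_iff _).2 (SiteDer16.cohInBdd_map (Scheme.Modules.pullback f) (DQCoh.coh X)
    (DQCoh.coh Y) (fun M hM => CycLib28.InterSheaf.isCoh_pullback f hM) ((cohb_iff _).1 h)))

theorem cohb_push [CompactSpace X] {f : Y ⟶ X} [IsProper f] [IsLocallyNoetherian Y] [DCoh.HasRpush f]
    {K : DCoh.D Y} (h : SGA6.cohbP Y K) : SGA6.cohbP X ((DCoh.Rpush f).obj K) := by
  obtain ⟨hK, a, b, ha, hb⟩ := h
  haveI := ha
  obtain ⟨N, hN⟩ := SupportAdj.exists_isLE_Rpush f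
  haveI : HasInjectiveResolutions Y.Modules := Coherent.hasInjectiveResolutions_modules Y
  exact ⟨SupportAdj.isCohD_Rpush f K a hK, a, b + N,
    SiteDer16.isGE_totalRightDerived (modules_enoughKInj Y) (Scheme.Modules.pushforward f) K a,
    hN K b (fun i => (hK i).1) hb⟩

variable {n : ℕ} {S Pt : Scheme.{u}} {f : Pt ⟶ S} {L : ℤ → Pt.Modules}

/-- Bounded coherent objects over a Noetherian base. -/
def cohAdm (H : Tws n f L) [IsNoetherian S] [IsLocallyNoetherian Pt] [IsProper f] : Adm H where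
  base := SGA6.cohbP S
  total := SGA6.cohbP Pt
  qc_base h := fun i => (h.1 i).1
  qc_total h := fun i => (h.1 i).1
  iso_base e h := cohb_iso e h
  iso_total e h := cohb_iso e h
  zero_base := cohb_zero
  zero_total := cohb_zero
  cone_total hT h₁ h₂ := cohb_cone hT h₁ h₂
  twist_total _ _ hK := cohb_twist _ hK
  push_total hK := cohb_push hK

end Groth.Agent.KPerfPn28
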