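import Groth.Agent.KPerfPn28.Local
import Groth.Agent.CohDer1.KPerf.Transfer
import Groth.Prelude.Def_SGA6

/-!
# `K₀` of perfect complexes on projective space over any base
-/

set_option autoImplicit false
set_option linter.style.haveILetI false
set_option backward.isDefEq.respectTransparency false
set_option maxHeartbeats 800000

universe u

open CategoryTheory CategoryTheory.Limits CategoryTheory.Pretriangulated AlgebraicGeometry
open Groth.Agent.DCat Groth.Agent.Coherent Groth.Agent.KoszPn17 Groth.Agent.Dual22Lib Groth.Agent.Dual22Lib.BCSquare Groth.Agent.Dual22Lib.WeakExact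
open scoped ZeroObject

attribute [local instance] HasDerivedCategory.standard

noncomputable section

namespace Groth.Agent.KPerfPn28

section Classes

universe v₁ v₂ u₁ u₂

variable {C : Type u₁} [Category.{v₁} C] [Preadditive C] [HasZeroObject C] [HasShift C ℤ]
  [∀ n : ℤ, (shiftFunctor C n).Additive] [Pretriangulated C] {P : ObjectProperty C}
  {D : Type u₂} [Category.{v₂} D] [Preadditive D] [HasZeroObject D] [HasShift D ℤ]
  [∀ n : ℤ, (shiftFunctor D n).Additive] [Pretriangulated D] {Q : ObjectProperty D}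

theorem cl_rel {T : Triangle C} (hT : T ∈ distTriang _) (h₁ : P T.obj₁) (h₂ : P T.obj₂) (h₃ : P T.obj₃) :
    KZero.clTr P T.obj₂ = KZero.clTr P T.obj₁ + KZero.clTr P T.obj₃ :=
  CohDer1.KPerf.clTr_rel' hT h₁ h₂ h₃

theorem cl_iso (hiso : ∀ {K L : C}, (K ≅ L) → P K → P L) (h0 : P 0) {K L : C} (e : K ≅ L) (hK : P K) :
    KZero.clTr P L = KZero.clTr P K :=
  CohDer1.KPerf.clTr_iso' e hK (hiso e hK) h0

theorem cl_isZero (hiso : ∀ {K L : C}, (K ≅ L) → P K → P L) (h0 : P 0) {K : C} (h : IsZero K) :
    KZero.clTr P K = 0 := by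
  have hz : KZero.clTr P (0 : C) = 0 :=
    left_eq_add.1 (cl_rel (contractible_distinguished (0 : C)) h0 h0 h0)
  rw [cl_iso hiso h0 (h.iso (isZero_zero C)).symm h0, hz]

theorem mapTr_cl (F : C ⥤ D) [F.CommShift ℤ] [F.IsTriangulated] (h : ∀ K : C, P K → Q (F.obj K)) {K : C}
    (hK : P K) : SGA6.mapTr F P Q h (KZero.clTr P K) = KZero.clTr Q (F.obj K) := by
  rw [KZero.clTr, KZero.clTr, dif_pos hK, dif_pos (h K hK)]
  rfl

theorem hom_ext' {M : Type*} [AddCommGroup M] (f g : KZero.K0tr P →+ M)
    (h : ∀ K : C, P K → f (KZero.clTr P K) = g (KZero.clTr P K)) : f = g := by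
  refine AddMonoidHom.ext fun x => ?_
  obtain ⟨z, rfl⟩ := QuotientAddGroup.mk_surjective x
  induction z using FreeAbelianGroup.induction_on with
  | zero => simp
  | of K =>
    have hK : (QuotientAddGroup.mk (FreeAbelianGroup.of K) : KZero.K0tr P) = KZero.clTr P K.1 := by
      rw [KZero.clTr, dif_pos K.2]
    rw [hK]; exact h _ K.2
  | neg K h => simp only [QuotientAddGroup.mk_neg, map_neg, h]
  | add a b ha hb => simp only [QuotientAddGroup.mk_add, map_add, ha, hb]

theorem mem_of_classes (H : AddSubgroup (KZero.K0tr P)) (h : ∀ K : C, P K → KZero.clTr P K ∈ H)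
    (x : KZero.K0tr P) : x ∈ H := by
  have h' := hom_ext' (QuotientAddGroup.mk' H) 0 fun K hK => (QuotientAddGroup.eq_zero_iff _).2 (h K hK)
  exact (QuotientAddGroup.eq_zero_iff _).1 (DFunLike.congr_fun h' x)

end Classes

/-- A pair of classes of objects with quasi-coherent cohomology on `S` and on `P^n_S` compatible with
pull-back, direct image and twists. -/
structure Adm {n : ℕ} {S Pt : Scheme.{u}} {f : Pt ⟶ S} {L : ℤ → Pt.Modules} (H : Tws n f L) where
  base : ObjectProperty (DCoh.D S)
  total : ObjectProperty (DCoh.D Pt)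
  qc_base : ∀ {M : DCoh.D S}, base M → DCoh.IsQCohD M
  qc_total : ∀ {K : DCoh.D Pt}, total K → DCoh.IsQCohD K
  iso_base : ∀ {M N : DCoh.D S}, (M ≅ N) → base M → base N
  iso_total : ∀ {K L : DCoh.D Pt}, (K ≅ L) → total K → total L
  zero_base : base 0
  zero_total : total 0
  cone_total : ∀ {T : Triangle (DCoh.D Pt)}, T ∈ distTriang _ → total T.obj₁ → total T.obj₂ → total T.obj₃
  twist_total : ∀ (d : ℤ) {K : DCoh.D Pt}, total K → total ((GS H d).obj K)
  push_total : ∀ [DCoh.HasRpush f] {K : DCoh.D Pt}, total K →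
    base ((DCoh.Rpush f).obj K)

variable {n : ℕ} {S Pt : Scheme.{u}} {f : Pt ⟶ S} {L : ℤ → Pt.Modules} {H : Tws n f L} (A : Adm H)

/-- The twist on classes. -/
def tw (d : ℤ) : KZero.K0tr A.total →+ KZero.K0tr A.total :=
  letI := pfl_tensE (H.inv d)
  letI := pfc_tensE (H.inv d)
  SGA6.mapTr (tensE (L d)).mapDerivedCategory A.total A.total fun _ hK => A.twist_total d hK

theorem tw_cl (d : ℤ) {K : DCoh.D Pt} (hK : A.total K) :
    tw A d (KZero.clTr A.total K) = KZero.clTr A.total ((GS H d).obj K) := by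
  letI := pfl_tensE (H.inv d)
  letI := pfc_tensE (H.inv d)
  exact mapTr_cl _ _ hK

theorem tw_tw {a b c : ℤ} (h : a + b = c) (x : KZero.K0tr A.total) : tw A a (tw A b x) = tw A c x := by
  have key : (tw A a).comp (tw A b) = tw A c := hom_ext' _ _ fun K hK => by
    obtain ⟨e⟩ := nonempty_GS_add H h
    rw [AddMonoidHom.comp_apply, tw_cl A b hK, tw_cl A a (A.twist_total b hK), tw_cl A c hK]
    exact cl_iso A.iso_total A.zero_total (e.app K).symm (A.twist_total c hK)
  exact DFunLike.congr_fun key x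

theorem tw_zero (x : KZero.K0tr A.total) : tw A 0 x = x := by
  have key : tw A 0 = AddMonoidHom.id _ := hom_ext' _ _ fun K hK => by
    obtain ⟨e⟩ := nonempty_GS_zero H
    rw [tw_cl A 0 hK, AddMonoidHom.id_apply]
    exact cl_iso A.iso_total A.zero_total (e.app K).symm hK
  exact DFunLike.congr_fun key x

/-- `K₀` on `P^n_S` is free over that of `S` on `O, …, O(n)`. -/
theorem bijective_free [DCoh.HasLpull f] [(DCoh.Lpull f).CommShift ℤ]
    [(DCoh.Lpull f).IsTriangulated]
    (hf : ∀ K : DCoh.D S, A.base K → A.total ((DCoh.Lpull f).obj K)) :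
    Function.Bijective (fun x : Fin (n + 1) → KZero.K0tr A.base => ∑ i : Fin (n + 1),
      tw A ((i : ℕ) : ℤ) (SGA6.mapTr (DCoh.Lpull f) A.base A.total hf (x i))) := by
  let p := f
  haveI := DCat.hasRpush p
  obtain ⟨_, _⟩ := exists_commShift_Rpush p
  obtain ⟨adj⟩ := nonempty_pullPushAdj p
  let Lh := SGA6.mapTr (DCoh.Lpull p) A.base A.total hf
  let Ph := SGA6.mapTr (DCoh.Rpush p) A.total A.base fun _ hK => A.push_total hK
  have hqc : ∀ {M : DCoh.D S}, A.base M → DCoh.IsQCohD M := fun h => A.qc_base h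
  have h1 : ∀ x, Ph (Lh x) = x := fun x => by
    refine DFunLike.congr_fun (hom_ext' (Ph.comp Lh) (AddMonoidHom.id _) fun M hM => ?_) x
    haveI := isIso_unit H adj M (hqc hM)
    rw [AddMonoidHom.comp_apply, AddMonoidHom.id_apply]
    simp only [Lh, Ph]
    rw [mapTr_cl _ hf hM, mapTr_cl _ _ (hf M hM)]
    exact cl_iso A.iso_base A.zero_base (asIso (adj.unit.app M)) hM
  have h2 : ∀ d : ℤ, -(n : ℤ) ≤ d → d < 0 → ∀ x, Ph (tw A d (Lh x)) = 0 := fun d hd hd' x => by
    refine DFunLike.congr_fun (hom_ext' ((Ph.comp (tw A d)).comp Lh) 0 fun M hM => ?_) x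
    rw [AddMonoidHom.comp_apply, AddMonoidHom.comp_apply, AddMonoidHom.zero_apply]
    simp only [Lh, Ph]
    rw [mapTr_cl _ hf hM, tw_cl A d (hf M hM), mapTr_cl _ _ (A.twist_total _ (hf M hM))]
    exact cl_isZero A.iso_base A.zero_base (isZero_push_pull' H d hd hd' M (hqc hM))
  let Φ : (Fin (n + 1) → KZero.K0tr A.base) →+ KZero.K0tr A.total :=
    ∑ i : Fin (n + 1), ((tw A ((i : ℕ) : ℤ)).comp Lh).comp (Pi.evalAddMonoidHom _ i)
  have hΦ : ∀ x, Φ x = ∑ i : Fin (n + 1), tw A ((i : ℕ) : ℤ) (Lh (x i)) := fun x => by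
    simp [Φ]
  suffices H : Function.Bijective Φ by
    refine (funext hΦ : (Φ : _ → _) = _) ▸ H
  refine ⟨(injective_iff_map_eq_zero Φ).2 fun x hx => ?_, fun y => ?_⟩
  · suffices H : ∀ k : ℕ, ∀ i : Fin (n + 1), n < (i : ℕ) + k → x i = 0 from
      funext fun i => H (n + 1) i (by omega)
    intro k
    induction k with
    | zero => intro i hi; omega
    | succ k ih =>
      intro m hm
      rcases Nat.lt_or_ge n ((m : ℕ) + k) with h | h
      · exact ih m h
      have e := congrArg (fun z => Ph (tw A (-((m : ℕ) : ℤ)) z)) hx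
      simp only [hΦ, map_sum, map_zero] at e
      rw [Finset.sum_eq_single m] at e
      · rw [tw_tw A (c := 0) (by ring), tw_zero A, h1] at e
        exact e
      · intro i _ hi
        rw [tw_tw A (c := ((i : ℕ) : ℤ) - ((m : ℕ) : ℤ)) (by ring)]
        rcases lt_or_gt_of_ne (fun h' => hi (Fin.ext h')) with hlt | hgt
        · exact h2 _ (by omega) (by omega) _
        · rw [ih i (by omega), map_zero, map_zero, map_zero]
      · simp
  · suffices Hind : ∀ j k : ℕ, k + j = n + 1 → ∀ E : DCoh.D Pt, A.total E →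
        (∀ d : ℕ, d < k → IsZero ((DCoh.Rpush p).obj ((GS H d).obj E))) →
        tw A n (KZero.clTr A.total E) ∈ Φ.range by
      refine mem_of_classes Φ.range (fun K hK => ?_) y
      have := Hind (n + 1) 0 (by omega) ((GS H (-(n : ℤ))).obj K) (A.twist_total _ hK) (fun d hd => by omega)
      rw [← tw_cl A _ hK, tw_tw A (c := 0) (by ring), tw_zero A] at this
      exact this
    intro j
    induction j with
    | zero =>
      intro k hk E hE hv
      rw [cl_isZero A.iso_total A.zero_total (isZero_of_push H E (A.qc_total hE) fun d hd => hv d (by omega)), map_zero]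
      exact zero_mem _
    | succ j ih =>
      intro k hk E hE hv
      have hG : A.total ((GS H k).obj E) := A.twist_total _ hE
      let M := (DCoh.Rpush p).obj ((GS H k).obj E)
      have hM : A.base M := A.push_total hG
      obtain ⟨C, v, w, hT⟩ := distinguished_cocone_triangle (adj.counit.app ((GS H k).obj E))
      have hC : A.total C := A.cone_total hT (hf M hM) hG
      have hrel : KZero.clTr A.total ((GS H k).obj E) = Lh (KZero.clTr A.base M) + KZero.clTr A.total C := by
        simp only [Lh]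
        rw [mapTr_cl _ hf hM]
        exact cl_rel hT (hf M hM) hG hC
      have hmem : tw A ((n : ℤ) - k) (Lh (KZero.clTr A.base M)) ∈ Φ.range := by
        refine ⟨Pi.single (⟨n - k, by omega⟩ : Fin (n + 1)) (KZero.clTr A.base M), ?_⟩
        rw [hΦ, Finset.sum_eq_single (⟨n - k, by omega⟩ : Fin (n + 1))]
        · rw [Pi.single_eq_same, show (((⟨n - k, by omega⟩ : Fin (n + 1)) : ℕ) : ℤ) = (n : ℤ) - k by simp; omega]
        · intro i _ hi
          rw [Pi.single_eq_of_ne hi, map_zero, map_zero]
        · simp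
      have hP : IsZero ((DCoh.Rpush p).obj C) := by
        haveI := isIso_unit H adj M (hqc hM)
        haveI : IsIso ((DCoh.Rpush p).map (adj.counit.app ((GS H k).obj E))) := by
          haveI : IsIso (adj.unit.app M ≫ (DCoh.Rpush p).map (adj.counit.app ((GS H k).obj E))) := by
            rw [adj.right_triangle_components]; exact inferInstanceAs (IsIso (𝟙 _))
          exact IsIso.of_isIso_comp_left (adj.unit.app M) _
        exact (Triangle.isZero₃_iff_isIso₁ _ ((DCoh.Rpush p).map_distinguished _ hT)).2 ‹_›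
      have hE' := ih (k + 1) (by omega) ((GS H (-(k : ℤ))).obj C) (A.twist_total _ hC) fun d hd => by
        obtain ⟨a⟩ := nonempty_GS_add H (show (d : ℤ) + (-(k : ℤ)) = (d : ℤ) - k by ring)
        refine IsZero.of_iso ?_ ((DCoh.Rpush p).mapIso (a.app C))
        rcases Nat.lt_or_ge d k with hdk | hdk
        · obtain ⟨δ, hδ⟩ := (show TriExact (GS H ((d : ℤ) - k)) from
            fun T hT => by
              letI := pfl_tensE (H.inv ((d : ℤ) - k))
              letI := pfc_tensE (H.inv ((d : ℤ) - k))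
              exact triExact_of_isTriangulated (tensE (L ((d : ℤ) - k))).mapDerivedCategory T hT) _ hT
          obtain ⟨δ', hδ'⟩ := TenLocal.triExact_Rpush p _ hδ
          haveI : IsIso ((DCoh.Rpush p).map ((GS H ((d : ℤ) - k)).map (adj.counit.app ((GS H k).obj E)))) := by
            obtain ⟨b⟩ := nonempty_GS_add H (show ((d : ℤ) - k) + (k : ℤ) = (d : ℤ) by ring)
            exact ⟨⟨0, (isZero_push_pull' H _ (by omega) (by omega) M (hqc hM)).eq_of_src _ _,
              ((hv d hdk).of_iso ((DCoh.Rpush p).mapIso (b.app E))).eq_of_src _ _⟩⟩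
          exact (Triangle.isZero₃_iff_isIso₁ _ hδ').2 ‹_›
        · obtain rfl : d = k := by omega
          obtain ⟨z⟩ := nonempty_GS_zero H
          rw [sub_self]
          exact hP.of_iso ((DCoh.Rpush p).mapIso (z.app C))
      have e : tw A n (KZero.clTr A.total E) = tw A ((n : ℤ) - k) (KZero.clTr A.total ((GS H k).obj E)) := by
        rw [← tw_cl A _ hE, tw_tw A (c := (n : ℤ)) (by ring)]
      rw [e, hrel, map_add]
      refine add_mem hmem ?_
      rw [← tw_cl A _ hC, tw_tw A (c := (n : ℤ) - k) (by ring)] at hE'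
      exact hE'

end Groth.Agent.KPerfPn28
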